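import Groth.Agent.GrpSch.K270.MB.Shape3
import Groth.Agent.GrpSch.K86.GmPow
import Groth.Agent.PRed.K543.TorKer
import Groth.Agent.Sga3B.BorSpan613

/-!
# Torsion points of the abelian quotient lift to torsion points of a semi-abelian group, fppf locally

Node (LIFT) of the plan of S14306.
-/

set_option autoImplicit false
universe u
open CategoryTheory CategoryTheory.Limits MonoidalCategory CartesianMonoidalCategory MonObj GrpObj AlgebraicGeometry

namespace K194.LiftTors

open K270.MB

/-- `π` faithfully flat and quasi-compact: points of the target lift to the source after a faithfully flat quasi-compact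
base change. -/
theorem exists_lift {S : Scheme.{u}} {G B T : Over S} (π : G ⟶ B) [Surjective π.left] [Flat π.left]
    [QuasiCompact π.left] (z : T ⟶ B) :
    ∃ (T' : Over S) (g : T' ⟶ T) (y : T' ⟶ G), Surjective g.left ∧ Flat g.left ∧ QuasiCompact g.left ∧ y ≫ π = g ≫ z := by
  refine ⟨Over.mk (pullback.fst z.left π.left ≫ T.hom), Over.homMk (pullback.fst z.left π.left) rfl,
    Over.homMk (pullback.snd z.left π.left) ?_, ?_, ?_, ?_, ?_⟩
  · change pullback.snd z.left π.left ≫ G.hom = pullback.fst z.left π.left ≫ T.hom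
    rw [← Over.w π, ← Category.assoc, ← pullback.condition, Category.assoc, Over.w z]
  · change Surjective (pullback.fst z.left π.left)
    infer_instance
  · change Flat (pullback.fst z.left π.left)
    infer_instance
  · change QuasiCompact (pullback.fst z.left π.left)
    infer_instance
  · apply Over.OverMorphism.ext
    exact pullback.condition.symm

theorem isTorus_of_isGmPow {k : Type u} [Field k] {T : Over (Spec (CommRingCat.of k))} [GrpObj T] {r : ℕ}
    {χ : Fin r → U T} (h : IsGmPow r T χ) : Red.IsTorus T :=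
  Groth.Agent.Sga3B.BorSpan613.isTorus_of_isSplitTorusWith (K86.GmPow.isSplit h)

/-- (LIFT) -/
theorem main : K270.MB.NodeLiftTors.{u} := by
  intro k _ G T B _ _ _ _ r χ τ π h hqc N hN T₁ z hz
  have := h.flat
  have := h.surj
  have hτm : IsMonHom τ := h.sub.mon
  have hπm : IsMonHom π := h.mon
  obtain ⟨T', g, y, hg1, hg2, hg3, hy⟩ := exists_lift π z
  have h1 : (y ^ N) ≫ π = 1 := by
    rw [MonObj.pow_comp, hy, ← MonObj.comp_pow, hz, MonObj.comp_one]
  obtain ⟨t, ht⟩ := (h.ker _).2 h1
  have hT : Red.IsTorus T := isTorus_of_isGmPow h.gm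
  obtain ⟨hs, hf⟩ := K543.TorKer.surjective_flat_pow hT hN
  have hTa : IsAffineHom T.hom := Groth.Agent.Sga3B.TorusAlgClosed.isAffineHom_of_isTorus hT
  have hTa' : IsAffine T.left := isAffine_of_isAffineHom T.hom
  obtain ⟨T₂, g', w, hg1', hg2', hg3', hw⟩ := exists_lift ((𝟙 T : T ⟶ T) ^ N) t
  rw [MonObj.comp_pow, Category.comp_id] at hw
  refine ⟨T₂, g' ≫ g, (g' ≫ y) * (w ≫ τ)⁻¹, ?_, ?_, ?_, ?_, ?_⟩
  · rw [Over.comp_left]
    infer_instance
  · rw [Over.comp_left]
    infer_instance
  · rw [Over.comp_left]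
    infer_instance
  · rw [mul_pow, ← MonObj.comp_pow, inv_pow, ← MonObj.pow_comp, hw, Category.assoc, ht,
      mul_inv_cancel]
  · have h2 : w ≫ τ ≫ π = 1 := (h.ker _).1 ⟨w, rfl⟩
    rw [MonObj.mul_comp, GrpObj.inv_comp, Category.assoc, Category.assoc, h2, inv_one, _root_.mul_one, Category.assoc,
      hy]

end K194.LiftTors
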